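import Cfsg.Agent.H144.SpFinal

/-!
# Symplectic groups: products of four isometries with square `-1` (helper785, for S4171)
-/

set_option autoImplicit false
open Polynomial

noncomputable section

namespace Cfsg.Agent.H785.Inv4

open Cfsg.Agent.H144

section basic

variable {F V : Type*} [Field F] [AddCommGroup V] [Module F V]

/-- square `-1` -/
def Jsq (T : V ≃ₗ[F] V) : Prop := ∀ v, T (T v) = -v

/-- product of four isometries with square `-1` -/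
def F4 (B : LinearMap.BilinForm F V) (g : V ≃ₗ[F] V) : Prop :=
  ∃ T₁ T₂ T₃ T₄ : V ≃ₗ[F] V, (Iso B T₁ ∧ Iso B T₂ ∧ Iso B T₃ ∧ Iso B T₄) ∧
    (Jsq T₁ ∧ Jsq T₂ ∧ Jsq T₃ ∧ Jsq T₄) ∧ g = T₁ * T₂ * T₃ * T₄

theorem Jsq.inv {T : V ≃ₗ[F] V} (h : Jsq T) : Jsq T⁻¹ := by
  intro v
  have h1 : T (T (T⁻¹ (T⁻¹ v))) = - (T⁻¹ (T⁻¹ v)) := h _
  rw [app_inv, app_inv] at h1
  have h2 := congrArg Neg.neg h1
  rw [neg_neg] at h2
  exact h2.symm

theorem Jsq.conj {T : V ≃ₗ[F] V} (h : Jsq T) (u : V ≃ₗ[F] V) : Jsq (u * T * u⁻¹) := by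
  intro v
  simp only [LinearEquiv.mul_apply]
  rw [inv_app, h, map_neg, app_inv]

theorem Jsq.two {J g : V ≃ₗ[F] V} (h : Jsq J) (hg : ∀ v, J (g v) = g⁻¹ (J v)) : Jsq (J⁻¹ * g) := by
  intro v
  simp only [LinearEquiv.mul_apply]
  have h1 : ∀ w, g (J⁻¹ w) = J⁻¹ (g⁻¹ w) := by
    intro w
    have h2 := hg (J⁻¹ w)
    rw [app_inv] at h2
    rw [← h2, inv_app]
  rw [h1, inv_app, h.inv]

theorem F4.of_inv {B : LinearMap.BilinForm F V} {J g : V ≃ₗ[F] V} (hJ : Iso B J) (hg : Iso B g) (h : Jsq J)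
    (hJg : ∀ v, J (g v) = g⁻¹ (J v)) : F4 B g :=
  ⟨J, J⁻¹ * g, J, J⁻¹, ⟨hJ, hJ.inv.mul hg, hJ, hJ.inv⟩, ⟨h, h.two hJg, h, h.inv⟩, by group⟩

theorem Jsq.ng {T : V ≃ₗ[F] V} (h : Jsq T) : Jsq (ng T) := by
  intro v
  rw [ng_apply, ng_apply, map_neg, neg_neg, h]

theorem F4.of_ng {B : LinearMap.BilinForm F V} {g : V ≃ₗ[F] V} (h : F4 B (ng g)) : F4 B g := by
  obtain ⟨T₁, T₂, T₃, T₄, ⟨i1, i2, i3, i4⟩, ⟨s1, s2, s3, s4⟩, e⟩ := h
  refine ⟨ng T₁, T₂, T₃, T₄, ⟨ng_iso i1, i2, i3, i4⟩, ⟨s1.ng, s2, s3, s4⟩, ?_⟩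
  have h1 : g = ng (ng g) := by
    ext v
    rw [ng_apply, ng_apply, neg_neg]
  rw [h1, e]
  rfl

/-- an isometry of square `-1` on `P`, the identity on the orthogonal complement -/
structure Pc (B : LinearMap.BilinForm F V) (P : Submodule F V) (T : V ≃ₗ[F] V) : Prop where
  iso : Iso B T
  pres : ∀ v ∈ P, T v ∈ P
  triv : ∀ v ∈ perp B P, T v = v
  sq : ∀ v ∈ P, T (T v) = -v

theorem Pc.sup {B : LinearMap.BilinForm F V} (hB : Alt B) {P Q : Submodule F V} (hPQ : Orth B P Q)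
    {T T' : V ≃ₗ[F] V} (h : Pc B P T) (h' : Pc B Q T') :
    Pc B (P ⊔ Q) (T * T') ∧ (∀ v ∈ P, (T * T') v = T v) ∧ ∀ v ∈ Q, (T * T') v = T' v := by
  have hPp : ∀ v ∈ P, v ∈ perp B Q := fun v hv w hw => hB.zero (hPQ v hv w hw)
  have hQp : ∀ v ∈ Q, v ∈ perp B P := fun v hv w hw => hPQ w hw v hv
  have e1 : ∀ v ∈ P, (T * T') v = T v := fun v hv => by
    rw [LinearEquiv.mul_apply, h'.triv v (hPp v hv)]
  have e2 : ∀ v ∈ Q, (T * T') v = T' v := fun v hv => by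
    rw [LinearEquiv.mul_apply, h.triv _ (hQp _ (h'.pres v hv))]
  refine ⟨⟨h.iso.mul h'.iso, ?_, ?_, ?_⟩, e1, e2⟩
  · intro v hv
    obtain ⟨a, ha, b, hb, rfl⟩ := Submodule.mem_sup.1 hv
    rw [map_add, e1 a ha, e2 b hb]
    exact Submodule.add_mem_sup (h.pres a ha) (h'.pres b hb)
  · intro v hv
    have h1 : v ∈ perp B P := fun w hw => hv w (Submodule.mem_sup_left hw)
    have h2 : v ∈ perp B Q := fun w hw => hv w (Submodule.mem_sup_right hw)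
    rw [LinearEquiv.mul_apply, h'.triv v h2, h.triv v h1]
  · intro v hv
    obtain ⟨a, ha, b, hb, rfl⟩ := Submodule.mem_sup.1 hv
    rw [map_add, e1 a ha, e2 b hb, map_add, e1 _ (h.pres a ha), e2 _ (h'.pres b hb), h.sq a ha, h'.sq b hb, neg_add]

/-- product of four isometries with square `-1` on `P` -/
def F4On (B : LinearMap.BilinForm F V) (g : V ≃ₗ[F] V) (P : Submodule F V) : Prop :=
  ∃ T₁ T₂ T₃ T₄ : V ≃ₗ[F] V, Pc B P T₁ ∧ Pc B P T₂ ∧ Pc B P T₃ ∧ Pc B P T₄ ∧ ∀ v ∈ P, g v = T₁ (T₂ (T₃ (T₄ v)))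

theorem F4On.bot (B : LinearMap.BilinForm F V) (g : V ≃ₗ[F] V) : F4On B g ⊥ := by
  have h : Pc B (⊥ : Submodule F V) 1 := ⟨Iso.one B, fun v hv => hv, fun v _ => rfl, fun v hv => by
    rw [Submodule.mem_bot] at hv
    rw [hv]
    simp⟩
  refine ⟨1, 1, 1, 1, h, h, h, h, fun v hv => ?_⟩
  rw [Submodule.mem_bot] at hv
  rw [hv]
  simp

theorem F4On.sup {B : LinearMap.BilinForm F V} (hB : Alt B) {g : V ≃ₗ[F] V} {P Q : Submodule F V}
    (hPQ : Orth B P Q) (hP : F4On B g P) (hQ : F4On B g Q) : F4On B g (P ⊔ Q) := by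
  obtain ⟨T₁, T₂, T₃, T₄, h1, h2, h3, h4, e⟩ := hP
  obtain ⟨S₁, S₂, S₃, S₄, k1, k2, k3, k4, e'⟩ := hQ
  obtain ⟨a1, b1, c1⟩ := h1.sup hB hPQ k1
  obtain ⟨a2, b2, c2⟩ := h2.sup hB hPQ k2
  obtain ⟨a3, b3, c3⟩ := h3.sup hB hPQ k3
  obtain ⟨a4, b4, c4⟩ := h4.sup hB hPQ k4
  refine ⟨T₁ * S₁, T₂ * S₂, T₃ * S₃, T₄ * S₄, a1, a2, a3, a4, ?_⟩
  intro v hv
  obtain ⟨a, ha, b, hb, rfl⟩ := Submodule.mem_sup.1 hv
  rw [map_add, e a ha, e' b hb, map_add, map_add, map_add, map_add, b4 a ha, b3 _ (h4.pres a ha),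
    b2 _ (h3.pres _ (h4.pres a ha)), b1 _ (h2.pres _ (h3.pres _ (h4.pres a ha))), c4 b hb, c3 _ (k4.pres b hb),
    c2 _ (k3.pres _ (k4.pres b hb)), c1 _ (k2.pres _ (k3.pres _ (k4.pres b hb)))]

theorem F4On.top {B : LinearMap.BilinForm F V} {g : V ≃ₗ[F] V} (h : F4On B g ⊤) : F4 B g := by
  obtain ⟨T₁, T₂, T₃, T₄, h1, h2, h3, h4, e⟩ := h
  refine ⟨T₁, T₂, T₃, T₄, ⟨h1.iso, h2.iso, h3.iso, h4.iso⟩, ⟨fun v => h1.sq v trivial, fun v => h2.sq v trivial,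
    fun v => h3.sq v trivial, fun v => h4.sq v trivial⟩, ?_⟩
  ext v
  exact e v trivial

theorem F4On.of [FiniteDimensional F V] {B : LinearMap.BilinForm F V} (hB : Alt B) {P : Submodule F V} (hP : Nd B P)
    {g : V ≃ₗ[F] V} (hI : Inv g P) (h : F4 (B.restrict P) (gr g P hI)) : F4On B g P := by
  obtain ⟨T₁, T₂, T₃, T₄, ⟨i1, i2, i3, i4⟩, ⟨s1, s2, s3, s4⟩, e⟩ := h
  have key : ∀ T : P ≃ₗ[F] P, Iso (B.restrict P) T → Jsq T → ∃ X : V ≃ₗ[F] V, Pc B P X ∧ ∀ v : P, X v = T v := by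
    intro T hT hT'
    obtain ⟨X, hX, hXT, hXp⟩ := ext_iso hB hP hT
    refine ⟨X, ⟨hX, fun v hv => ?_, hXp, fun v hv => ?_⟩, hXT⟩
    · rw [hXT ⟨v, hv⟩]; exact (T ⟨v, hv⟩).2
    · rw [hXT ⟨v, hv⟩, hXT, hT']
      rfl
  obtain ⟨X₁, p1, q1⟩ := key T₁ i1 s1
  obtain ⟨X₂, p2, q2⟩ := key T₂ i2 s2
  obtain ⟨X₃, p3, q3⟩ := key T₃ i3 s3
  obtain ⟨X₄, p4, q4⟩ := key T₄ i4 s4
  refine ⟨X₁, X₂, X₃, X₄, p1, p2, p3, p4, fun v hv => ?_⟩
  rw [q4 ⟨v, hv⟩, q3, q2, q1, ← gr_apply g P hI ⟨v, hv⟩, e]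
  rfl

theorem f4On_exc [FiniteDimensional F V] {B : LinearMap.BilinForm F V} (hB : Alt B) {g : V ≃ₗ[F] V} (hg : Iso B g)
    {P : Submodule F V} (hP : Nd B P) (h : ExcOn B g P) : F4On B g P := by
  obtain ⟨hI, _, a, ha, _, J, hJ, hJ2, hJh⟩ := h
  apply F4On.of hB hP hI
  refine F4.of_inv hJ (gr_iso hg P hI) hJ2 fun v => ?_
  have h1 := hJh v
  rw [ng_apply, ng_inv_apply, map_neg, neg_inj] at h1
  exact h1

end basic

/-! ### The corner -/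

section corner

variable {F V : Type*} [Field F] [AddCommGroup V] [Module F V] [FiniteDimensional F V]

theorem corner {B : LinearMap.BilinForm F V} {P Q : Submodule F V} (hP : Orth B P P)
    (hQ : Orth B Q Q) (hPQ : P ⊔ Q = ⊤) {X : V ≃ₗ[F] V} (hX : Iso B X)
    (hXP : ∀ v ∈ P, X v ∈ P) (hXQ : ∀ v ∈ Q, X v ∈ Q) (f f' : F[X])
    (hfP : ∀ v ∈ P, aeval (X : Module.End F V) f v = 0)
    (hfQ : ∀ v ∈ Q, aeval (X : Module.End F V) f v = 0 → v = 0)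
    (hfQ' : ∀ v ∈ Q, aeval (X : Module.End F V) f' v = 0)
    (hfP' : ∀ v ∈ P, aeval (X : Module.End F V) f' v = 0 → v = 0)
    {n m : Module.End F V} (hn : n ∈ Skew B Q) (hm : m ∈ Skew B P) {g : V ≃ₗ[F] V}
    (hg : g = uni n (skew_sq hn) * uni m (skew_sq hm)) :
    ∃ u t : V ≃ₗ[F] V, Iso B u ∧ Iso B t ∧ g = (u * X * u⁻¹) * (t * X⁻¹ * t⁻¹) := by
  obtain ⟨z, hz, hzX⟩ := sylvester hPQ hX hXQ f hfP hfQ hn
  have h1 : uni z (skew_sq hz) * X = uni n (skew_sq hn) * X * uni z (skew_sq hz) := by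
    ext v
    simp only [LinearEquiv.mul_apply, uni_apply, map_add]
    have : n (X (z v)) = 0 := hn.2.1 _ (hXQ _ (hz.1 v))
    rw [hzX, this]
    abel
  have hm' : -m ∈ Skew B P := (Skew B P).neg_mem hm
  have hQP : Q ⊔ P = ⊤ := by rw [sup_comm]; exact hPQ
  obtain ⟨w, hw, hwY⟩ := sylvester hQP hX hXP f' hfQ' hfP' hm'
  have h2 : uni w (skew_sq hw) * X = (uni m (skew_sq hm))⁻¹ * X * uni w (skew_sq hw) := by
    ext v
    simp only [LinearEquiv.mul_apply, uni_apply, uni_inv_apply, map_add]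
    have : m (X (w v)) = 0 := hm.2.1 _ (hXP _ (hw.1 v))
    rw [hwY, this, LinearMap.neg_apply]
    abel
  have hui : Iso B (uni z (skew_sq hz)) := skew_iso hQ hz
  have hti : Iso B (uni w (skew_sq hw)) := skew_iso hP hw
  generalize uni n (skew_sq hn) = a at *
  generalize uni m (skew_sq hm) = b at *
  generalize uni z (skew_sq hz) = u at *
  generalize uni w (skew_sq hw) = t at *
  have e1 : a * X = u * X * u⁻¹ := by rw [h1]; group
  have e2 : X⁻¹ * b = t * X⁻¹ * t⁻¹ := by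
    have : b⁻¹ * X = t * X * t⁻¹ := by rw [h2]; group
    have h3 := congrArg (fun s => s⁻¹) this
    simp only [mul_inv_rev, inv_inv] at h3
    rw [h3]
    group
  refine ⟨u, t, hui, hti, ?_⟩
  calc g = (a * X) * (X⁻¹ * b) := by rw [hg]; group
    _ = (u * X * u⁻¹) * (t * X⁻¹ * t⁻¹) := by rw [e1, e2]

/-- an isometry of square `-1` interchanging `P` and `Q` and inverting `X` -/
theorem levi_J {B : LinearMap.BilinForm F V} (hB : Alt B) (hN : Nond B) {P Q : Submodule F V}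
    (hP : Orth B P P) (hQ : Orth B Q Q) (hPQ : P ⊔ Q = ⊤) {x : P ≃ₗ[F] P} {X : V ≃ₗ[F] V} (hX : Iso B X)
    (hXx : ∀ v : P, X v = x v) (hXQ : ∀ v ∈ Q, X v ∈ Q) (β : LinearMap.BilinForm F P)
    (hs : ∀ u v, β u v = β v u) (hn : ∀ u, (∀ v, β u v = 0) → u = 0) (hx : ∀ u v, β (x u) v = β u (x v)) :
    ∃ J : V ≃ₗ[F] V, Iso B J ∧ Jsq J ∧ ∀ v, J (X v) = X⁻¹ (J v) := by
  have hc := isCompl_of hN hP hQ hPQ
  let e₀ : Q →ₗ[F] Module.Dual F P := (B.compl₁₂ P.subtype Q.subtype).flip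
  have he₀ : Function.Injective e₀ := by
    rw [← LinearMap.ker_eq_bot, LinearMap.ker_eq_bot']
    intro q hq
    have : (q : V) = 0 := by
      apply eq_zero_of_orth hN hPQ _ (hQ q q.2)
      intro w hw
      have := LinearMap.congr_fun hq ⟨w, hw⟩
      exact hB.zero this
    exact Subtype.ext this
  let e : Q ≃ₗ[F] Module.Dual F P := LinearEquiv.ofInjectiveOfFinrankEq e₀ he₀ (by
    rw [Subspace.dual_finrank_eq]; exact (finrank_eq hB hN hP hQ hPQ).symm)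
  have he : ∀ (q : Q) (p : P), e q p = B p q := fun q p => rfl
  have hβ : Function.Injective β := by
    rw [← LinearMap.ker_eq_bot, LinearMap.ker_eq_bot']
    intro u hu
    exact hn u (fun v => LinearMap.congr_fun hu v)
  let eβ : P ≃ₗ[F] Module.Dual F P := LinearEquiv.ofInjectiveOfFinrankEq β hβ (Subspace.dual_finrank_eq).symm
  have heβ : ∀ u v : P, eβ u v = β u v := fun u v => rfl
  let j : P ≃ₗ[F] Q := eβ.trans e.symm
  have hj : ∀ u v : P, B u (j v) = β u v := by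
    intro u v
    rw [← he]
    change e (e.symm (eβ v)) u = _
    rw [e.apply_symm_apply, heβ, hs]
  let E := Submodule.prodEquivOfIsCompl P Q hc
  have hE : ∀ (p : P) (q : Q), E.symm (p + q) = (p, q) := by
    intro p q
    rw [E.symm_apply_eq]
    rfl
  let f : V →ₗ[F] V := (Q.subtype ∘ₗ (j : P →ₗ[F] Q) ∘ₗ LinearMap.fst F P Q ∘ₗ (E.symm : V →ₗ[F] P × Q)) -
    (P.subtype ∘ₗ (j.symm : Q →ₗ[F] P) ∘ₗ LinearMap.snd F P Q ∘ₗ (E.symm : V →ₗ[F] P × Q))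
  have hf : ∀ (p : P) (q : Q), f (p + q) = j p - (j.symm q : V) := by
    intro p q
    change ((j (E.symm ((p : V) + q)).1 : Q) : V) - ((j.symm (E.symm ((p : V) + q)).2 : P) : V) = _
    rw [hE]
  have hfP : ∀ p : P, f p = j p := by
    intro p
    have := hf p 0
    simpa using this
  have hfQ : ∀ q : Q, f q = -(j.symm q : V) := by
    intro q
    have := hf 0 q
    simpa using this
  have hff : ∀ v, f (f v) = -v := by
    intro v
    obtain ⟨p, hp, q, hq, rfl⟩ := mem_sup_top hPQ v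
    rw [map_add, hfP ⟨p, hp⟩, hfQ ⟨q, hq⟩, map_add, map_neg, hfP, hfQ, j.symm_apply_apply, j.apply_symm_apply, neg_add]
  let J : V ≃ₗ[F] V := LinearEquiv.ofLinearMap f (-f) (by
      ext v
      change f (-(f v)) = v
      rw [map_neg, hff, neg_neg]) (by
      ext v
      change -(f (f v)) = v
      rw [hff, neg_neg])
  have hJ : ∀ v, J v = f v := fun v => rfl
  refine ⟨J, ?_, fun v => hff v, ?_⟩
  · intro v w
    obtain ⟨p, hp, q, hq, rfl⟩ := mem_sup_top hPQ v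
    obtain ⟨p', hp', q', hq', rfl⟩ := mem_sup_top hPQ w
    have h1 := hf ⟨p, hp⟩ ⟨q, hq⟩
    have h2 := hf ⟨p', hp'⟩ ⟨q', hq'⟩
    simp only at h1 h2
    rw [hJ, hJ, h1, h2]
    simp only [map_add, map_sub, LinearMap.add_apply, LinearMap.sub_apply]
    rw [hQ _ (j ⟨p, hp⟩).2 _ (j ⟨p', hp'⟩).2, hP _ (j.symm ⟨q, hq⟩).2 _ (j.symm ⟨q', hq'⟩).2,
      hP p hp p' hp', hQ q hq q' hq', hB.neg (j ⟨p, hp⟩ : V), hj, hj]
    have h3 := hj ⟨p, hp⟩ (j.symm ⟨q', hq'⟩)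
    have h4 := hj ⟨p', hp'⟩ (j.symm ⟨q, hq⟩)
    rw [j.apply_symm_apply] at h3 h4
    simp only at h3 h4
    rw [hB.neg q p', h3, h4, hs (j.symm ⟨q', hq'⟩), hs (j.symm ⟨q, hq⟩)]
    ring
  · have hXi : ∀ v : P, X⁻¹ v = (x⁻¹ v : P) := by
      intro v
      have h1 := hXx (x⁻¹ v)
      rw [app_inv] at h1
      rw [← h1, inv_app]
    have hXJ : ∀ p : P, X (j (x p)) = j p := by
      intro p
      rw [← sub_eq_zero]
      apply eq_zero_of_orth hN hPQ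
      · intro w hw
        apply hB.zero
        have h1 : B w (X (j (x p))) = B (X⁻¹ w) (j (x p)) := by
          have h2 := hX (X⁻¹ w) (j (x p))
          rwa [app_inv] at h2
        rw [map_sub, h1, hXi ⟨w, hw⟩, hj, ← hx, app_inv]
        rw [hj ⟨w, hw⟩ p, sub_self]
      · intro w hw
        exact hQ _ (Q.sub_mem (hXQ _ (j (x p)).2) (j p).2) w hw
    have key : ∀ v, X (J (X v)) = J v := by
      intro v
      obtain ⟨p, hp, q, hq, rfl⟩ := mem_sup_top hPQ v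
      rw [map_add, map_add, map_add, map_add]
      congr 1
      · rw [hXx ⟨p, hp⟩, hJ, hJ, hfP, hXJ]
        exact (hfP ⟨p, hp⟩).symm
      · obtain ⟨p', hp'⟩ : ∃ p' : P, ((j p' : Q) : V) = q := ⟨j.symm ⟨q, hq⟩, by rw [j.apply_symm_apply]⟩
        have h1 : X q = j (x⁻¹ p') := by
          have h2 := hXJ (x⁻¹ p')
          rw [app_inv, hp'] at h2
          exact h2
        rw [h1, hJ, hJ, hfQ, j.symm_apply_apply, map_neg, hXx, app_inv, ← hp', hfQ, j.symm_apply_apply]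
    intro v
    rw [← key v, inv_app]

theorem sing_form [Finite F] (hV : Module.finrank F V ≠ 0)
    (h : 5 ≤ Nat.card F ^ Module.finrank F V ∨ 4 ≤ Nat.card F) :
    ∃ (x : V ≃ₗ[F] V) (f f' : F[X]), Sing x f f' ∧ ∃ β : LinearMap.BilinForm F V, (∀ u v, β u v = β v u) ∧
      (∀ u, (∀ v, β u v = 0) → u = 0) ∧ ∀ u v, β (x u) v = β u (x v) := by
  obtain ⟨K, _, _, _, hK, ξ, hξ, h1, h2⟩ := exists_singer F (Module.finrank F V) hV h
  let e : V ≃ₗ[F] K := LinearEquiv.ofFinrankEq V K hK.symm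
  let y : K ≃ₗ[F] K := LinearEquiv.ofLinearMap
    (LinearMap.mulLeft F ξ) (LinearMap.mulLeft F ξ⁻¹)
    (by ext v; simp [mul_inv_cancel_left₀ hξ]) (by ext v; simp [inv_mul_cancel_left₀ hξ])
  have hy : ∀ v, y v = ξ * v := fun v => rfl
  refine ⟨e.trans (y.trans e.symm), _, _, (sing_smul ξ hξ h1 h2 y (fun v => rfl)).conj e (fun v => rfl), ?_⟩
  -- a functional
  obtain ⟨l, hl⟩ : ∃ l : Module.Dual F K, l 1 ≠ 0 := by
    by_contra hcon
    push Not at hcon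
    exact one_ne_zero ((Module.forall_dual_apply_eq_zero_iff F (1 : K)).1 hcon)
  let β : LinearMap.BilinForm F V := ((LinearMap.mul F K).compr₂ l).compl₁₂ (e : V →ₗ[F] K) (e : V →ₗ[F] K)
  have hβ : ∀ u v, β u v = l (e u * e v) := fun u v => rfl
  refine ⟨β, fun u v => by rw [hβ, hβ, mul_comm], fun u hu => ?_, fun u v => ?_⟩
  · by_contra hne
    have h3 : e u ≠ 0 := fun h0 => hne (e.map_eq_zero_iff.1 h0)
    have h4 := hu (e.symm (e u)⁻¹)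
    rw [hβ, e.apply_symm_apply, mul_inv_cancel₀ h3] at h4
    exact hl h4
  · rw [hβ, hβ]
    change l (e (e.symm (y (e u))) * e v) = l (e u * e (e.symm (y (e v))))
    rw [e.apply_symm_apply, e.apply_symm_apply, hy, hy]
    congr 1
    ring

theorem c1_four [Finite F] {B : LinearMap.BilinForm F V} (hB : Alt B) (hN : Nond B) {n : ℕ}
    (hV : Module.finrank F V = 2 * n) (hn : n ≠ 0) (h : 5 ≤ Nat.card F ^ n ∨ 4 ≤ Nat.card F)
    {g : V ≃ₗ[F] V} (hg : Iso B g) (hC : C1 B g) : F4 B g := by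
  obtain ⟨P, Q, hP, hQ, hPQ, hPg⟩ := hC
  have h2 := finrank_two hB hN hP hQ hPQ
  have h3 : Module.finrank F P = n := by omega
  obtain ⟨x, f, f', hx, β, hs, hn', hxβ⟩ := sing_form (F := F) (V := P) (by omega) (by rw [h3]; exact h)
  obtain ⟨n, m, hn, hm, hnm⟩ := c1_factor hB hN hP hQ hPQ hg hPg
  obtain ⟨X, hX, hXx, hXQ⟩ := levi hB hN hP hQ hPQ x
  have hXP : ∀ v ∈ P, X v ∈ P := fun v hv => by rw [hXx ⟨v, hv⟩]; exact (x ⟨v, hv⟩).2
  have hXi : ∀ v : P, X⁻¹ v = (x⁻¹ v : P) := by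
    intro v
    have h1 := hXx (x⁻¹ v)
    rw [app_inv] at h1
    rw [← h1, inv_app]
  have hfP : ∀ v ∈ P, aeval (X : Module.End F V) f v = 0 := by
    intro v hv
    have h1 := aeval_restrict (X := (X : Module.End F V)) (x := (x : Module.End F P)) hXx f ⟨v, hv⟩
    rw [h1, hx.1]
    rfl
  have hfP' : ∀ v ∈ P, aeval (X : Module.End F V) f' v = 0 → v = 0 := by
    intro v hv h0
    have h1 := aeval_restrict (X := (X : Module.End F V)) (x := (x : Module.End F P)) hXx f' ⟨v, hv⟩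
    rw [h0] at h1
    exact congrArg Subtype.val (hx.2.2.2 ⟨v, hv⟩ (Subtype.ext h1.symm))
  have hfQ : ∀ v ∈ Q, aeval (X : Module.End F V) f v = 0 → v = 0 := by
    intro v hv h0
    apply eq_zero_of_orth hN hPQ _ (hQ v hv)
    intro w hw
    have hinj : Function.Injective (aeval ((x⁻¹ : P ≃ₗ[F] P) : Module.End F P) f) := by
      rw [← LinearMap.ker_eq_bot, LinearMap.ker_eq_bot']
      exact hx.2.1
    obtain ⟨w', hw'⟩ := (LinearMap.injective_iff_surjective.1 hinj) ⟨w, hw⟩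
    have h1 := aeval_adj hX f (w' : V) v
    have h2 := aeval_restrict (X := ((X⁻¹ : V ≃ₗ[F] V) : Module.End F V))
      (x := ((x⁻¹ : P ≃ₗ[F] P) : Module.End F P)) hXi f w'
    rw [h0, map_zero, h2, hw'] at h1
    exact hB.zero h1.symm
  have hfQ' : ∀ v ∈ Q, aeval (X : Module.End F V) f' v = 0 := by
    intro v hv
    apply eq_zero_of_orth hN hPQ _ (hQ _ (aeval_mem hXQ f' v hv))
    intro w hw
    have h1 := aeval_adj hX f' w v
    have h2 := aeval_restrict (X := ((X⁻¹ : V ≃ₗ[F] V) : Module.End F V))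
      (x := ((x⁻¹ : P ≃ₗ[F] P) : Module.End F P)) hXi f' ⟨w, hw⟩
    simp only at h2
    rw [h2, hx.2.2.1, Submodule.coe_zero, map_zero, LinearMap.zero_apply] at h1
    exact hB.zero h1
  obtain ⟨u, t, hu, ht, e⟩ := corner hP hQ hPQ hX hXP hXQ f f' hfP hfQ hfQ' hfP' hn hm hnm
  obtain ⟨J, hJ, hJ2, hJX⟩ := levi_J hB hN hP hQ hPQ hX hXx hXQ β hs hn' hxβ
  have hJX' : ∀ v, J (X⁻¹ v) = (X⁻¹)⁻¹ (J v) := by
    intro v
    rw [inv_inv]
    have h1 := hJX (X⁻¹ v)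
    rw [app_inv] at h1
    rw [h1, app_inv]
  have s2 := hJ2.two hJX
  have s4 := hJ2.two hJX'
  refine ⟨u * J * u⁻¹, u * (J⁻¹ * X) * u⁻¹, t * J * t⁻¹, t * (J⁻¹ * X⁻¹) * t⁻¹,
    ⟨(hu.mul hJ).mul hu.inv, (hu.mul (hJ.inv.mul hX)).mul hu.inv, (ht.mul hJ).mul ht.inv,
      (ht.mul (hJ.inv.mul hX.inv)).mul ht.inv⟩, ⟨hJ2.conj u, s2.conj u, hJ2.conj t, s4.conj t⟩, ?_⟩
  rw [e]
  group

end corner

end Cfsg.Agent.H785.Inv4
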