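import Cfsg.Agent.H785.Inv4.SpA

/-!
# Symplectic groups: dimension four over `F_3` (helper785, for S4171)
-/

set_option autoImplicit false
open Polynomial

noncomputable section

namespace Cfsg.Agent.H785.Inv4

open Cfsg.Agent.H144

theorem four_mat4 (k t : ZMod 3) (hk : k ≠ 0) : ∃ T₁ T₂ T₃ T₄ : Matrix (Fin 4) (Fin 4) (ZMod 3),
    T₁.transpose * Jm _ * T₁ = Jm _ ∧ T₂.transpose * Jm _ * T₂ = Jm _ ∧ T₃.transpose * Jm _ * T₃ = Jm _ ∧
    T₄.transpose * Jm _ * T₄ = Jm _ ∧ T₁ * T₁ = -1 ∧ T₂ * T₂ = -1 ∧ T₃ * T₃ = -1 ∧ T₄ * T₄ = -1 ∧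
    Gm k t = T₁ * T₂ * T₃ * T₄ := by
  have h : (k = 1 ∨ k = 2) ∧ (t = 0 ∨ t = 1 ∨ t = 2) := by revert k t; decide
  rcases h with ⟨rfl | rfl, rfl | rfl | rfl⟩
  · exact ⟨!![0, 0, 1, 0; 0, 0, 0, 1; 2, 0, 0, 0; 0, 2, 0, 0],
      !![0, 0, 1, 0; 0, 0, 0, 1; 2, 0, 0, 0; 0, 2, 0, 0],
      !![0, 2, 0, 0; 1, 0, 0, 0; 0, 0, 2, 1; 0, 0, 1, 1],
      !![0, 1, 0, 0; 2, 0, 0, 0; 0, 0, 1, 1; 0, 0, 1, 2],
      by unfold Jm; decide, by unfold Jm; decide, by unfold Jm; decide, by unfold Jm; decide,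
      by decide, by decide, by decide, by decide, by unfold Gm; decide⟩
  · exact ⟨!![0, 0, 1, 0; 0, 0, 0, 1; 2, 0, 0, 0; 0, 2, 0, 0],
      !![0, 0, 2, 2; 0, 0, 1, 0; 0, 2, 0, 0; 1, 1, 0, 0],
      !![2, 2, 2, 2; 0, 1, 0, 1; 2, 2, 1, 1; 0, 1, 0, 2],
      !![0, 2, 0, 2; 2, 0, 2, 0; 0, 2, 0, 1; 2, 0, 1, 0],
      by unfold Jm; decide, by unfold Jm; decide, by unfold Jm; decide, by unfold Jm; decide,
      by decide, by decide, by decide, by decide, by unfold Gm; decide⟩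
  · exact ⟨!![0, 0, 1, 0; 0, 0, 0, 1; 2, 0, 0, 0; 0, 2, 0, 0],
      !![0, 0, 1, 1; 0, 0, 0, 1; 2, 1, 0, 0; 0, 2, 0, 0],
      !![2, 0, 0, 1; 0, 1, 1, 0; 0, 1, 2, 0; 1, 0, 0, 1],
      !![1, 1, 1, 2; 0, 2, 2, 0; 0, 2, 1, 0; 2, 2, 1, 2],
      by unfold Jm; decide, by unfold Jm; decide, by unfold Jm; decide, by unfold Jm; decide,
      by decide, by decide, by decide, by decide, by unfold Gm; decide⟩
  · exact ⟨!![0, 0, 1, 0; 0, 0, 0, 1; 2, 0, 0, 0; 0, 2, 0, 0],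
      !![0, 0, 1, 0; 0, 0, 0, 1; 2, 0, 0, 0; 0, 2, 0, 0],
      !![0, 2, 0, 0; 1, 0, 0, 0; 0, 0, 2, 1; 0, 0, 1, 1],
      !![0, 1, 0, 0; 2, 0, 0, 0; 0, 0, 2, 2; 0, 0, 2, 1],
      by unfold Jm; decide, by unfold Jm; decide, by unfold Jm; decide, by unfold Jm; decide,
      by decide, by decide, by decide, by decide, by unfold Gm; decide⟩
  · exact ⟨!![0, 0, 1, 0; 0, 0, 0, 1; 2, 0, 0, 0; 0, 2, 0, 0],
      !![0, 0, 1, 2; 0, 0, 1, 0; 0, 2, 0, 0; 1, 2, 0, 0],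
      !![2, 1, 2, 1; 0, 1, 0, 1; 2, 1, 1, 2; 0, 1, 0, 2],
      !![0, 2, 0, 2; 2, 0, 2, 0; 0, 2, 0, 1; 2, 0, 1, 0],
      by unfold Jm; decide, by unfold Jm; decide, by unfold Jm; decide, by unfold Jm; decide,
      by decide, by decide, by decide, by decide, by unfold Gm; decide⟩
  · exact ⟨!![0, 0, 1, 0; 0, 0, 0, 1; 2, 0, 0, 0; 0, 2, 0, 0],
      !![0, 0, 1, 2; 0, 0, 0, 1; 2, 2, 0, 0; 0, 2, 0, 0],
      !![2, 0, 0, 1; 0, 1, 1, 0; 0, 1, 2, 0; 1, 0, 0, 1],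
      !![1, 2, 2, 2; 0, 2, 2, 0; 0, 2, 1, 0; 2, 1, 2, 2],
      by unfold Jm; decide, by unfold Jm; decide, by unfold Jm; decide, by unfold Jm; decide,
      by decide, by decide, by decide, by decide, by unfold Gm; decide⟩

theorem exists_ringHom {F : Type*} [Field F] [Finite F] (h3 : Nat.card F = 3) :
    ∃ φ : ZMod 3 →+* F, Function.Surjective φ := by
  have : Fintype F := Fintype.ofFinite F
  have hc : Fintype.card F = 3 := by rw [← Nat.card_eq_fintype_card, h3]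
  have : Fact (Nat.Prime 3) := ⟨Nat.prime_three⟩
  have : CharP F 3 := by
    have h1 : ringChar F ∣ 3 := by
      apply ringChar.dvd
      rw [← hc]
      exact FiniteField.cast_card_eq_zero F
    rcases (Nat.dvd_prime Nat.prime_three).1 h1 with h2 | h2
    · exact absurd h2 (CharP.ringChar_ne_one)
    · exact (ringChar.eq_iff).1 h2
  let φ : ZMod 3 →+* F := ZMod.castHom (dvd_refl 3) F
  exact ⟨φ, ((Fintype.bijective_iff_injective_and_card φ).2 ⟨φ.injective, by rw [hc, ZMod.card]⟩).2⟩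

/-- the matrix conditions -/
def MT {F : Type*} [Field F] (T : Matrix (Fin 4) (Fin 4) F) : Prop :=
  T.transpose * Jm _ * T = Jm _ ∧ T * T = -1

theorem MT.map {F K : Type*} [Field F] [Field K] (φ : F →+* K) {T : Matrix (Fin 4) (Fin 4) F} (h : MT T) :
    MT (T.map φ) := by
  have hJ : (Jm F).map φ = Jm K := by
    ext i j
    fin_cases i <;> fin_cases j <;> simp [Jm]
  refine ⟨?_, ?_⟩
  · rw [← hJ, ← Matrix.transpose_map, ← Matrix.map_mul, ← Matrix.map_mul, h.1]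
  · rw [← Matrix.map_mul, h.2]
    ext i j
    simp [Matrix.one_apply, apply_ite φ]

theorem four_mat4' {F : Type*} [Field F] [Finite F] (h3 : Nat.card F = 3) (k t : F) (hk : k ≠ 0) :
    ∃ T₁ T₂ T₃ T₄ : Matrix (Fin 4) (Fin 4) F, MT T₁ ∧ MT T₂ ∧ MT T₃ ∧ MT T₄ ∧ Gm k t = T₁ * T₂ * T₃ * T₄ := by
  have : Fact (Nat.Prime 3) := ⟨Nat.prime_three⟩
  obtain ⟨φ, hφs⟩ := exists_ringHom h3
  obtain ⟨k', rfl⟩ := hφs k
  obtain ⟨t', rfl⟩ := hφs t
  obtain ⟨T₁, T₂, T₃, T₄, a1, a2, a3, a4, b1, b2, b3, b4, e⟩ := four_mat4 k' t' (fun h0 => hk (by rw [h0, map_zero]))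
  have hG : (Gm k' t').map φ = Gm (φ k') (φ t') := by
    ext i j
    fin_cases i <;> fin_cases j <;> simp [Gm]
  refine ⟨_, _, _, _, MT.map φ ⟨a1, b1⟩, MT.map φ ⟨a2, b2⟩, MT.map φ ⟨a3, b3⟩, MT.map φ ⟨a4, b4⟩, ?_⟩
  rw [← hG, e, Matrix.map_mul, Matrix.map_mul, Matrix.map_mul]

variable {F V : Type*} [Field F] [AddCommGroup V] [Module F V]

theorem mat_four {B : LinearMap.BilinForm F V} (b : Module.Basis (Fin 4) F V)
    {G T₁ T₂ T₃ T₄ : Matrix (Fin 4) (Fin 4) F}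
    (hJ : ∀ i j, B (b i) (b j) = Jm F i j) {g : V ≃ₗ[F] V} (hg : ∀ j, g (b j) = ∑ i, G i j • b i)
    (h1 : MT T₁) (h2 : MT T₂) (h3 : MT T₃) (h4 : MT T₄) (h : G = T₁ * T₂ * T₃ * T₄) : F4 B g := by
  have hBJ : ∀ (x y : V), B x y = dotProduct (b.repr x) (Matrix.mulVec (Jm F) (b.repr y)) := by
    intro x y
    conv_lhs => rw [← b.sum_repr x, ← b.sum_repr y]
    simp only [map_sum, LinearMap.sum_apply, map_smul, LinearMap.smul_apply, smul_eq_mul, hJ, dotProduct,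
      Matrix.mulVec, Finset.mul_sum]
    rw [Finset.sum_comm]
    refine Finset.sum_congr rfl fun i _ => Finset.sum_congr rfl fun j _ => by ring
  have hdet : ∀ A : Matrix (Fin 4) (Fin 4) F, A.transpose * Jm _ * A = Jm _ → IsUnit A.det := by
    intro A hA
    have h1 := congrArg Matrix.det hA
    rw [Matrix.det_mul, Matrix.det_mul, Matrix.det_transpose] at h1
    have h2 : (Jm F).det = 1 := by
      simp [Jm, Matrix.det_succ_row_zero, Fin.sum_univ_succ, Fin.succAbove]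
    rw [h2] at h1
    exact IsUnit.of_mul_eq_one A.det (by linear_combination h1)
  have mk : ∀ A : Matrix (Fin 4) (Fin 4) F, MT A →
      ∃ X : V ≃ₗ[F] V, Iso B X ∧ Jsq X ∧ ∀ v, X v = Matrix.toLin b b A v := by
    intro A hA
    refine ⟨Matrix.toLinearEquiv b A (hdet A hA.1), ?_, ?_, fun v => rfl⟩
    · intro x y
      rw [hBJ, hBJ]
      have h1 : ∀ v, (b.repr (Matrix.toLinearEquiv b A (hdet A hA.1) v) : Fin 4 → F) = Matrix.mulVec A (b.repr v) := by
        intro v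
        change (b.repr (Matrix.toLin b b A v) : Fin 4 → F) = _
        rw [Matrix.repr_toLin]
      rw [h1, h1, Matrix.mulVec_mulVec, ← Matrix.vecMul_transpose, ← Matrix.dotProduct_mulVec,
        Matrix.mulVec_mulVec, ← Matrix.mul_assoc, hA.1]
    · intro v
      change Matrix.toLin b b A (Matrix.toLin b b A v) = -v
      rw [← Matrix.toLin_mul_apply, hA.2, map_neg, Matrix.toLin_one]
      rfl
  obtain ⟨X₁, i1, s1, e1⟩ := mk _ h1
  obtain ⟨X₂, i2, s2, e2⟩ := mk _ h2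
  obtain ⟨X₃, i3, s3, e3⟩ := mk _ h3
  obtain ⟨X₄, i4, s4, e4⟩ := mk _ h4
  refine ⟨X₁, X₂, X₃, X₄, ⟨i1, i2, i3, i4⟩, ⟨s1, s2, s3, s4⟩, ?_⟩
  have hgG : ∀ v, g v = Matrix.toLin b b G v := by
    intro v
    have : (g : V →ₗ[F] V) = Matrix.toLin b b G := by
      apply b.ext
      intro j
      rw [Matrix.toLin_self]
      exact hg j
    exact LinearMap.congr_fun this v
  ext v
  simp only [LinearEquiv.mul_apply]
  rw [hgG, e1, e2, e3, e4, ← Matrix.toLin_mul_apply, ← Matrix.toLin_mul_apply, ← Matrix.toLin_mul_apply, h]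

variable [FiniteDimensional F V]

/-- dimension four, `q = 3` -/
theorem four_basis [Finite F] (h3 : Nat.card F = 3) {B : LinearMap.BilinForm F V} (hB : Alt B)
    {g : V ≃ₗ[F] V} (hg : Iso B g) {P Q : Submodule F V} (hPQ : Orth B P Q) (hP : Nd B P) (hQ : Nd B Q)
    (hPI : Inv g P) (hfP : Module.finrank F P = 2) (hfQ : Module.finrank F Q = 2)
    {v : V} (hv : v ∈ P) (hgv : g v ∉ Submodule.span F {v}) (hQg : ∀ w ∈ Q, g w = - w)
    (htop : P ⊔ Q = ⊤) : ∃ (bb : Module.Basis (Fin 4) F V) (κ τ : F), κ ≠ 0 ∧ (∀ i j, B (bb i) (bb j) = Jm F i j) ∧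
      ∀ j, g (bb j) = ∑ i, Gm κ τ i j • bb i := by
  have hv0 : v ≠ 0 := by
    rintro rfl
    exact hgv (by rw [map_zero]; exact Submodule.zero_mem _)
  -- `P` is spanned by `v`, `g v`
  have hspan : Submodule.span F {v} ⊔ Submodule.span F {g v} = P := by
    apply Submodule.eq_of_le_of_finrank_le
    · apply sup_le
      · rw [Submodule.span_singleton_le_iff_mem]; exact hv
      · rw [Submodule.span_singleton_le_iff_mem]; exact hPI v hv
    · rw [hfP]
      have h1 : Submodule.span F {v} < Submodule.span F {v} ⊔ Submodule.span F {g v} := by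
        apply lt_of_le_of_ne le_sup_left
        intro h0
        apply hgv
        rw [h0]
        exact Submodule.mem_sup_right (Submodule.mem_span_singleton_self _)
      have h2 := Submodule.finrank_lt_finrank_of_lt h1
      rw [finrank_span_singleton hv0] at h2
      omega
  have hmem : ∀ w ∈ P, ∃ a b : F, w = a • v + b • g v := by
    intro w hw
    rw [← hspan] at hw
    obtain ⟨x, hx, y, hy, rfl⟩ := Submodule.mem_sup.1 hw
    obtain ⟨a, rfl⟩ := Submodule.mem_span_singleton.1 hx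
    obtain ⟨b, rfl⟩ := Submodule.mem_span_singleton.1 hy
    exact ⟨a, b, rfl⟩
  set κ := B v (g v) with hκ
  have hκ0 : κ ≠ 0 := by
    intro h0
    apply hv0
    apply hP v hv
    intro w hw
    obtain ⟨a, b, rfl⟩ := hmem w hw
    rw [map_add, map_smul, map_smul, hB v, ← hκ, h0]
    simp
  obtain ⟨α, τ, hατ⟩ := hmem (g (g v)) (hPI _ (hPI _ hv))
  have hα : α = -1 := by
    have h1 := hg v (g v)
    rw [hατ, map_add, map_smul, map_smul, hB (g v), hB.neg (g v) v, ← hκ] at h1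
    simp only [smul_eq_mul, mul_zero, add_zero] at h1
    have h2 : (α + 1) * κ = 0 := by linear_combination -h1
    exact eq_neg_of_add_eq_zero_left ((mul_eq_zero.1 h2).resolve_right hκ0)
  -- a hyperbolic pair of `Q`
  obtain ⟨e, he, f, hf, hef⟩ : ∃ e ∈ Q, ∃ f ∈ Q, B e f = 1 := by
    have hQ0 : Q ≠ ⊥ := by
      rintro rfl
      rw [finrank_bot] at hfQ
      omega
    obtain ⟨e, he, he0⟩ := Submodule.exists_mem_ne_zero_of_ne_bot hQ0
    obtain ⟨f, hf, hne⟩ : ∃ f ∈ Q, B e f ≠ 0 := by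
      by_contra hcon
      push Not at hcon
      exact he0 (hQ e he hcon)
    refine ⟨e, he, (B e f)⁻¹ • f, Q.smul_mem _ hf, ?_⟩
    rw [map_smul, smul_eq_mul, inv_mul_cancel₀ hne]
  have hfV : Module.finrank F V = 4 := by
    have h1 := Submodule.finrank_sup_add_finrank_inf_eq P Q
    have h2 : P ⊓ Q = ⊥ := by
      rw [Submodule.eq_bot_iff]
      intro x hx
      exact hP x hx.1 (fun w hw => hB.zero (hPQ w hw x hx.2))
    rw [htop, h2, finrank_top, finrank_bot, hfP, hfQ] at h1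
    omega
  let b : Fin 4 → V := ![e, f, v, κ⁻¹ • g v]
  have hPv : ∀ w ∈ P, B w e = 0 ∧ B w f = 0 ∧ B e w = 0 ∧ B f w = 0 := fun w hw =>
    ⟨hPQ w hw e he, hPQ w hw f hf, hB.zero (hPQ w hw e he), hB.zero (hPQ w hw f hf)⟩
  have hgvP := hPI v hv
  have hJ : ∀ i j, B (b i) (b j) = Jm F i j := by
    intro i j
    have h1 := hPv v hv
    have h2 := hPv (g v) hgvP
    have h4 : B f e = -1 := by rw [hB.neg, hef]
    have h5 : B (g v) v = -κ := by rw [hB.neg]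
    fin_cases i <;> fin_cases j <;>
      simp [b, Jm, h1.1, h1.2.1, h1.2.2.1, h1.2.2.2, h2.1, h2.2.1, h2.2.2.1, h2.2.2.2, hB e, hB f, hB v,
        hB (g v), hef, h4, h5, ← hκ, hκ0]
  have hli : LinearIndependent F b := by
    rw [Fintype.linearIndependent_iff]
    intro c hc i
    have key : ∀ j, ∑ i, c i * Jm F i j = 0 := by
      intro j
      have h1 : B (∑ i, c i • b i) (b j) = 0 := by rw [hc, map_zero, LinearMap.zero_apply]
      rw [map_sum, LinearMap.sum_apply] at h1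
      rw [← h1]
      refine Finset.sum_congr rfl fun i _ => ?_
      rw [map_smul, LinearMap.smul_apply, smul_eq_mul, hJ]
    have k0 := key 0
    have k1 := key 1
    have k2 := key 2
    have k3 := key 3
    simp [Fin.sum_univ_succ, Jm] at k0 k1 k2 k3
    fin_cases i
    · exact k1
    · exact k0
    · exact k3
    · exact k2
  let bb := basisOfLinearIndependentOfCardEqFinrank hli (by rw [hfV]; rfl)
  have hbb : ∀ i, bb i = b i := fun i => by
    simp [bb]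
  have hκinv : κ⁻¹ = κ := by
    have : Fintype F := Fintype.ofFinite F
    have hc : Fintype.card F = 3 := by rw [← Nat.card_eq_fintype_card, h3]
    have h1 := FiniteField.pow_card_sub_one_eq_one κ hκ0
    rw [hc] at h1
    have h2 : κ * κ = 1 := by rw [← pow_two]; exact h1
    exact inv_eq_of_mul_eq_one_left h2
  refine ⟨bb, κ, τ, hκ0, fun i j => by rw [hbb, hbb, hJ], fun j => ?_⟩
  simp only [hbb]
  have hge := hQg e he
  have hgf := hQg f hf
  fin_cases j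
  · simp [b, Gm, Fin.sum_univ_succ, hge]
  · simp [b, Gm, Fin.sum_univ_succ, hgf]
  · simp only [b, Gm, Fin.sum_univ_succ]
    simp [smul_smul, mul_inv_cancel₀ hκ0]
  · have e3 : g (κ⁻¹ • g v) = -(κ • v) + τ • κ⁻¹ • g v := by
      rw [map_smul, hατ, hα, hκinv, smul_add, smul_smul, smul_smul, smul_smul, mul_comm κ τ]
      simp
    simpa [b, Gm, Fin.sum_univ_succ] using e3


theorem four_case4 [Finite F] (h3 : Nat.card F = 3) {B : LinearMap.BilinForm F V} (hB : Alt B)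
    {g : V ≃ₗ[F] V} (hg : Iso B g) {P Q : Submodule F V} (hPQ : Orth B P Q) (hP : Nd B P) (hQ : Nd B Q)
    (hPI : Inv g P) (hfP : Module.finrank F P = 2) (hfQ : Module.finrank F Q = 2)
    {v : V} (hv : v ∈ P) (hgv : g v ∉ Submodule.span F {v}) (hQg : ∀ w ∈ Q, g w = - w)
    (htop : P ⊔ Q = ⊤) : F4 B g := by
  obtain ⟨bb, κ, τ, hκ, hJ, hgb⟩ := four_basis h3 hB hg hPQ hP hQ hPI hfP hfQ hv hgv hQg htop
  obtain ⟨T₁, T₂, T₃, T₄, h1, h2, h4, h5, h6⟩ := four_mat4' h3 κ τ hκ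
  exact mat_four bb hJ hgb h1 h2 h4 h5 h6

end Cfsg.Agent.H785.Inv4
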