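import Cfsg.Agent.H785.Inv4.SpB

/-!
# Symplectic groups: every isometry is a product of four isometries with square `-1` (helper785, for S4171)
-/

set_option autoImplicit false
open Polynomial

noncomputable section

namespace Cfsg.Agent.H785.Inv4

open Cfsg.Agent.H144

variable {F V : Type*} [Field F] [AddCommGroup V] [Module F V] [FiniteDimensional F V]

theorem exists_Jsq {B : LinearMap.BilinForm F V} (hB : Alt B) (hN : Nond B) {P Q : Submodule F V}
    (hP : Orth B P P) (hQ : Orth B Q Q) (hPQ : P ⊔ Q = ⊤) : ∃ J : V ≃ₗ[F] V, Iso B J ∧ Jsq J := by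
  let e : P ≃ₗ[F] (Fin (Module.finrank F P) → F) := (Module.finBasis F P).equivFun
  let β : LinearMap.BilinForm F P := LinearMap.mk₂ F (fun u v => dotProduct (e u) (e v))
    (fun a b c => by rw [map_add, add_dotProduct]) (fun c a b => by rw [map_smul, smul_dotProduct])
    (fun a b c => by rw [map_add, dotProduct_add]) (fun c a b => by rw [map_smul, dotProduct_smul])
  have hβ : ∀ u v, β u v = dotProduct (e u) (e v) := fun u v => rfl
  obtain ⟨J, hJ, hJ2, -⟩ := levi_J hB hN hP hQ hPQ (x := 1) (X := 1) (Iso.one B) (fun v => rfl) (fun v hv => hv) β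
    (fun u v => by rw [hβ, hβ, dotProduct_comm]) (fun u hu => by
      apply e.map_eq_zero_iff.1
      ext i
      have h1 := hu (e.symm (Pi.single i 1))
      rw [hβ, e.apply_symm_apply, dotProduct_single, mul_one] at h1
      exact h1) (fun u v => rfl)
  exact ⟨J, hJ, hJ2⟩

theorem F4On.of_fixed {B : LinearMap.BilinForm F V} (hB : Alt B) {g : V ≃ₗ[F] V} {P : Submodule F V}
    (hP : Nd B P) (hI : Inv g P) (hC : C1On B g P) (h : ∀ v ∈ P, g v = v) : F4On B g P := by
  apply F4On.of hB hP hI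
  obtain ⟨W, W', h3, h4, h5, h6⟩ := c1_of_c1On hI hC
  obtain ⟨J, hJ, hJ2⟩ := exists_Jsq (restrict_alt hB P) (restrict_nond hP) h3 h4 h5
  have h7 : gr g P hI = 1 := by
    ext v
    exact h v v.2
  rw [h7]
  exact ⟨J, J⁻¹, J, J⁻¹, ⟨hJ, hJ.inv, hJ, hJ.inv⟩, ⟨hJ2, hJ2.inv, hJ2, hJ2.inv⟩, by group⟩

/-- the decomposition -/
def Dec4 (B : LinearMap.BilinForm F V) (g : V ≃ₗ[F] V) (P : Submodule F V) : Prop :=
  ∃ P' P₁ P₂ : Submodule F V, Orth B P' P₁ ∧ Orth B P' P₂ ∧ Orth B P₁ P₂ ∧ Inv g P' ∧ Inv g P₁ ∧ Inv g P₂ ∧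
    Nd B P' ∧ Nd B P₁ ∧ Nd B P₂ ∧ P' ⊔ (P₁ ⊔ P₂) = P ∧ C1On B g P' ∧
    ((P₁ = ⊥ ∧ P₂ = ⊥) ∨ ((2 : F) ≠ 0 ∧ ExcOn B g P₁)) ∧ F4On B g P₂

theorem exists_dec4 [Finite F] {B : LinearMap.BilinForm F V} (hB : Alt B) {g : V ≃ₗ[F] V}
    (hg : Iso B g) (n : ℕ) : ∀ P : Submodule F V, Inv g P → Nd B P → Module.finrank F P = n → Dec4 B g P := by
  induction n using Nat.strong_induction_on with
  | _ n ih =>
  intro P hPI hPN hn
  rcases Nat.eq_zero_or_pos n with h0 | hpos
  · rw [h0] at hn
    have hbot : P = ⊥ := Submodule.finrank_eq_zero.1 hn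
    subst hbot
    refine ⟨⊥, ⊥, ⊥, ?_, ?_, ?_, Inv.bot g, Inv.bot g, Inv.bot g, Nd.bot B, Nd.bot B, Nd.bot B, by simp,
      C1On.bot B g, Or.inl ⟨rfl, rfl⟩, F4On.bot B g⟩ <;>
    · intro x hx y _
      rw [Submodule.mem_bot] at hx
      subst hx; simp
  · -- a minimal nonzero invariant nondegenerate subspace
    classical
    have hex : ∃ k, ∃ Q : Submodule F V, Q ≤ P ∧ Q ≠ ⊥ ∧ Inv g Q ∧ Nd B Q ∧ Module.finrank F Q = k :=
      ⟨n, P, le_rfl, by
        rintro rfl
        rw [finrank_bot] at hn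
        omega, hPI, hPN, hn⟩
    obtain ⟨Q, hQP, hQ0, hQI, hQN, hQk⟩ := Nat.find_spec hex
    have hmin : ∀ Q' : Submodule F V, Q' ≤ P → Q' ≠ ⊥ → Inv g Q' → Nd B Q' →
        Module.finrank F Q ≤ Module.finrank F Q' := by
      intro Q' h1 h2 h3 h4
      rw [hQk]
      exact Nat.find_min' hex ⟨Q', h1, h2, h3, h4, rfl⟩
    have hQnt : Nontrivial Q := Submodule.nontrivial_iff_ne_bot.2 hQ0
    have hIndec : Indec (B.restrict Q) (gr g Q hQI) := by
      intro R hRI hRN
      by_cases hR : R = ⊥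
      · exact Or.inl hR
      right
      have h1 : Module.finrank F (R.map Q.subtype) = Module.finrank F R :=
        (Submodule.equivMapOfInjective Q.subtype Q.injective_subtype R).finrank_eq.symm
      have h2 := hmin (R.map Q.subtype) ((Submodule.map_subtype_le Q R).trans hQP) (by
        intro h0
        apply hR
        rw [h0, finrank_bot] at h1
        exact Submodule.finrank_eq_zero.1 h1.symm) (by
        rintro _ ⟨x, hx, rfl⟩
        exact ⟨_, hRI x hx, rfl⟩) (by
        rintro _ ⟨x, hx, rfl⟩ h0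
        have := hRN x hx (fun w hw => h0 w ⟨w, hw, rfl⟩)
        rw [this]; rfl)
      rw [h1] at h2
      exact Submodule.eq_top_of_finrank_eq (le_antisymm (Submodule.finrank_le R) h2)
    have hpiece := indec_main (restrict_alt hB Q) (restrict_nond hQN) (gr_iso hg Q hQI) hIndec
    -- the complement
    set R := P ⊓ perp B Q with hR
    have hQR : Q ⊔ R = P := by
      apply le_antisymm (sup_le hQP inf_le_left)
      intro v hv
      have h1 : v ∈ Q ⊔ perp B Q := by rw [sup_perp hB hQN]; trivial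
      obtain ⟨a, ha, b, hb, rfl⟩ := Submodule.mem_sup.1 h1
      refine Submodule.add_mem_sup ha ⟨?_, hb⟩
      have := P.sub_mem hv (hQP ha)
      simpa using this
    have hQRo : Orth B Q R := fun x hx y hy => hy.2 x hx
    have hRI : Inv g R := by
      intro v hv
      refine ⟨hPI v hv.1, fun w hw => ?_⟩
      rw [hg.adj']
      exact hv.2 _ (inv_mem_of_mem hQI w hw)
    have hRN : Nd B R := by
      intro v hv h0
      apply hPN v hv.1
      intro w hw
      rw [← hQR] at hw
      obtain ⟨a, ha, b, hb, rfl⟩ := Submodule.mem_sup.1 hw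
      rw [map_add, h0 b hb, hB.zero (hQRo a ha v hv), add_zero]
    have hdisj : Disjoint Q R := by
      rw [Submodule.disjoint_def]
      intro v hv hv'
      exact hQN v hv (fun w hw => hB.zero (hv'.2 w hw))
    have hfin : Module.finrank F Q + Module.finrank F R = n := by
      have h1 := Submodule.finrank_sup_add_finrank_inf_eq Q R
      rw [hQR, hdisj.eq_bot, finrank_bot, hn] at h1
      omega
    have hQpos : 0 < Module.finrank F Q := Module.finrank_pos
    obtain ⟨P', P₁, P₂, o1, o2, o3, i1, i2, i3, n1, n2, n3, hsup, hc, hex, hcomm⟩ :=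
      ih (Module.finrank F R) (by omega) R hRI hRN rfl
    have hP'R : P' ≤ R := by rw [← hsup]; exact le_sup_left
    have hP₁R : P₁ ≤ R := by rw [← hsup]; exact le_sup_left.trans le_sup_right
    have hP₂R : P₂ ≤ R := by rw [← hsup]; exact le_sup_right.trans le_sup_right
    have oQ : ∀ {T : Submodule F V}, T ≤ R → Orth B Q T := fun hT x hx y hy => hQRo x hx y (hT hy)
    rcases hpiece with hC | ⟨h2, hE⟩
    · refine ⟨Q ⊔ P', P₁, P₂, orth_sup (oQ hP₁R) o1, orth_sup (oQ hP₂R) o2, o3, Inv.sup hQI i1, i2, i3,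
        Nd.sup hB (oQ hP'R) hQN n1, n2, n3, ?_, C1On.sup hB (oQ hP'R) (c1On_of_c1 hQI hC) hc, hex, hcomm⟩
      rw [sup_assoc, hsup, hQR]
    · refine ⟨P', Q, P₁ ⊔ P₂, (oQ hP'R).symm hB, orth_sup' o1 o2, orth_sup' (oQ hP₁R) (oQ hP₂R), i1, hQI,
        Inv.sup i2 i3, n1, hQN, Nd.sup hB o3 n2 n3, ?_, hc, Or.inr ⟨h2, hQI, hE⟩, ?_⟩
      · rw [← sup_assoc, sup_comm P' Q, sup_assoc, hsup, hQR]
      · apply F4On.sup hB o3 _ hcomm
        rcases hex with ⟨h3, _⟩ | ⟨_, h3⟩
        · rw [h3]; exact F4On.bot B g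
        · exact f4On_exc hB hg n2 h3


variable [Finite F]

/-- **every isometry is a product of four isometries with square `-1`** -/
theorem sp_four {B : LinearMap.BilinForm F V} (hB : Alt B) (hN : Nond B) {n : ℕ}
    (hV : Module.finrank F V = 2 * n) (h1 : n = 1 → 4 ≤ Nat.card F) (h2 : n = 2 → 3 ≤ Nat.card F)
    {g : V ≃ₗ[F] V} (hg : Iso B g) : F4 B g := by
  apply F4On.top
  obtain ⟨P, Q, R, o1, o2, o3, i1, i2, i3, n1, n2, n3, hsup, hC, hex, hR⟩ :=
    exists_dec4 hB hg (Module.finrank F (⊤ : Submodule F V)) ⊤ (fun v _ => trivial) (fun v _ h => hN v (fun w => h w trivial)) rfl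
  have hcard : 2 ≤ Nat.card F := Finite.one_lt_card
  obtain ⟨m, hm⟩ : ∃ m, Module.finrank F P = 2 * m := by
    obtain ⟨W, W', h3, h4, h5, h6⟩ := c1_of_c1On i1 hC
    exact ⟨_, finrank_two (restrict_alt hB P) (restrict_nond n1) h3 h4 h5⟩
  have hPcomm : m ≠ 0 → (5 ≤ Nat.card F ^ m ∨ 4 ≤ Nat.card F) → F4On B g P := fun hm0 hq =>
    F4On.of hB n1 i1 (c1_four (restrict_alt hB P) (restrict_nond n1) hm hm0 hq (gr_iso hg P i1)
      (c1_of_c1On i1 hC))
  have hP0 : m = 0 → F4On B g P := by
    rintro rfl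
    have : P = ⊥ := Submodule.finrank_eq_zero.1 (by rw [hm, mul_zero])
    rw [this]
    exact F4On.bot B g
  have hQ : F4On B g Q := by
    rcases hex with ⟨h3, _⟩ | ⟨h3, h4⟩
    · rw [h3]; exact F4On.bot B g
    · exact f4On_exc hB hg n2 h4
  have hfin : F4On B g P → F4On B g ⊤ := by
    intro hP
    rw [← hsup]
    exact hP.sup hB (orth_sup' o1 o2) (hQ.sup hB o3 hR)
  rcases Nat.lt_or_ge (Nat.card F) 4 with hlt | hge
  swap
  · apply hfin
    by_cases hm0 : m = 0
    · exact hP0 hm0
    · exact hPcomm hm0 (Or.inr hge)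
  -- q = 2 or q = 3
  have : Fintype F := Fintype.ofFinite F
  rcases (show Nat.card F = 2 ∨ Nat.card F = 3 by omega) with hq | hq
  · -- q = 2
    have h20 : (2 : F) = 0 := by
      have h3 := FiniteField.cast_card_eq_zero F
      rw [← Nat.card_eq_fintype_card, hq] at h3
      exact_mod_cast h3
    rcases hex with ⟨h3, h4⟩ | ⟨h3, _⟩
    swap
    · exact absurd h20 h3
    rw [h3, h4, sup_bot_eq, sup_bot_eq] at hsup
    apply hfin
    have hmn : m = n := by
      rw [hsup, finrank_top, hV] at hm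
      omega
    by_cases hm0 : m = 0
    · exact hP0 hm0
    · apply hPcomm hm0
      left
      rw [hq]
      have h5 : 3 ≤ m := by
        rcases Nat.lt_or_ge m 3 with h6 | h6
        · have h7 : m = 1 ∨ m = 2 := by omega
          rcases h7 with h7 | h7
          · have := h1 (by omega); omega
          · have := h2 (by omega); omega
        · exact h6
      calc 5 ≤ 2 ^ 3 := by norm_num
        _ ≤ 2 ^ m := Nat.pow_le_pow_right (by norm_num) h5
  · -- q = 3
    by_cases hm0 : m = 0
    · exact hfin (hP0 hm0)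
    by_cases hm1 : m = 1
    swap
    · apply hfin
      apply hPcomm hm0
      left
      rw [hq]
      calc 5 ≤ 3 ^ 2 := by norm_num
        _ ≤ 3 ^ m := Nat.pow_le_pow_right (by norm_num) (by omega)
    subst hm1
    by_cases htriv : ∀ v ∈ P, g v = v
    · exact hfin (F4On.of_fixed hB n1 i1 hC htriv)
    obtain ⟨v, hv, hgv⟩ := exists_nonscalar n1 i1 hm hC htriv
    have hn1 : n ≠ 1 := by
      intro h3
      have := h1 h3
      omega
    rcases hex with ⟨h3, h4⟩ | ⟨h3, h4⟩
    · exfalso
      rw [h3, h4, sup_bot_eq, sup_bot_eq] at hsup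
      rw [hsup, finrank_top, hV] at hm
      omega
    have hPQn : Nd B (P ⊔ Q) := Nd.sup hB o1 n1 n2
    have hPQi : Inv g (P ⊔ Q) := Inv.sup i1 i2
    have key : F4On B g (P ⊔ Q) := by
      obtain ⟨hQI, hE1, a, ha, ha0, _⟩ := h4
      have hPQfin : Module.finrank F (P ⊔ Q : Submodule F V) = 2 * (2 * (a + 1)) := by
        have h5 := Submodule.finrank_sup_add_finrank_inf_eq P Q
        have h6 : P ⊓ Q = ⊥ := by
          rw [Submodule.eq_bot_iff]
          intro x hx
          exact n1 x hx.1 (fun w hw => hB.zero (o1 w hw x hx.2))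
        rw [h6, finrank_bot, hm, ha] at h5
        omega
      by_cases ha1 : a = 0
      · subst ha1
        apply F4On.of hB hPQn hPQi
        -- dimension four
        have hsub : ∀ {S : Submodule F V}, S ≤ P ⊔ Q →
            Module.finrank F (S.comap (P ⊔ Q).subtype) = Module.finrank F S := by
          intro S hS
          exact (Submodule.comapSubtypeEquivOfLe hS).finrank_eq
        refine four_case4 hq (B := B.restrict (P ⊔ Q)) (restrict_alt hB _) (gr_iso hg _ hPQi)
          (P := P.comap (P ⊔ Q).subtype) (Q := Q.comap (P ⊔ Q).subtype)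
          (fun x hx y hy => o1 x hx y hy) ?_ ?_ (fun x hx => i1 x hx)
          (by rw [hsub le_sup_left, hm]) (by rw [hsub le_sup_right, ha]) (v := ⟨v, Submodule.mem_sup_left hv⟩) hv
          ?_ ?_ ?_
        · intro x hx h0
          exact Subtype.ext (n1 x hx (fun w hw => h0 ⟨w, Submodule.mem_sup_left hw⟩ hw))
        · intro x hx h0
          exact Subtype.ext (n2 x hx (fun w hw => h0 ⟨w, Submodule.mem_sup_right hw⟩ hw))
        · intro h0
          apply hgv
          obtain ⟨c, hc⟩ := Submodule.mem_span_singleton.1 h0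
          exact Submodule.mem_span_singleton.2 ⟨c, congrArg Subtype.val hc⟩
        · intro w hw
          have h5 := ha0 rfl ⟨w, hw⟩
          rw [ng_apply] at h5
          have h6 := congrArg Subtype.val h5
          apply Subtype.ext
          change g w = -w
          change - g w = w at h6
          rw [← h6, neg_neg, h6]
        · rw [eq_top_iff]
          rintro ⟨x, hx⟩ _
          obtain ⟨y, hy, z, hz, rfl⟩ := Submodule.mem_sup.1 hx
          exact Submodule.mem_sup.2 ⟨⟨y, Submodule.mem_sup_left hy⟩, hy, ⟨z, Submodule.mem_sup_right hz⟩, hz, rfl⟩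
      · have hC' : C1On B (ng g) P := c1On_neg hB i1 hm hv hgv
        have hCQ : C1On B (ng g) Q := by
          have hI' : Inv (ng g) Q := fun w hw => by
            rw [ng_apply]; exact Q.neg_mem (i2 w hw)
          apply c1On_of_c1 hI'
          have : gr (ng g) Q hI' = ng (gr g Q hQI) := by
            ext w
            rfl
          rw [this]
          exact hE1
        have hCC := hC'.sup hB o1 hCQ
        have hI'' : Inv (ng g) (P ⊔ Q) := fun w hw => by
          rw [ng_apply]; exact Submodule.neg_mem _ (hPQi w hw)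
        apply F4On.of hB hPQn hPQi
        apply F4.of_ng
        have h7 : ng (gr g _ hPQi) = gr (ng g) _ hI'' := by
          ext w
          rfl
        rw [h7]
        refine c1_four (restrict_alt hB _) (restrict_nond hPQn) hPQfin (by omega) (Or.inl ?_)
          (gr_iso (ng_iso hg) _ hI'') (c1_of_c1On hI'' hCC)
        rw [hq]
        calc 5 ≤ 3 ^ 2 := by norm_num
          _ ≤ 3 ^ (2 * (a + 1)) := Nat.pow_le_pow_right (by norm_num) (by omega)
    rw [← hsup, ← sup_assoc]
    exact key.sup hB (orth_sup o2 o3) hR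

end Cfsg.Agent.H785.Inv4
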